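import Cfsg.Agent.H802.TE.Defs

/-!
# S5261, part E: (E2), the essential subgroups containing `Q1` (helper15)
-/

set_option autoImplicit false
set_option linter.unusedSectionVars false

namespace Cfsg.Agent.H15.TE

open Cfsg Cfsg.FusionSystem Cfsg.Agent.H756.PU Cfsg.Agent.H802.TE
open Cfsg.Agent.H765.D3 Cfsg.Agent.H765.D3.Sy
open Cfsg.Agent.Hex.Defs (sh cr nm tr)
open scoped commutatorElement

universe u

/-! ### Generalities -/

section gen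

variable {Ω : Type u} [Group Ω] {S E : Subgroup Ω} {p : ℕ} {Γ : Subgroup (MulAut E)}

theorem not_le_of_ess (h : Ess S E p Γ) : ¬ S ≤ E := by
  intro hSE
  obtain ⟨H, -, -, -, h1, -⟩ := h.spe
  apply h1
  rw [autInducedBy, Subgroup.closure_le]
  rintro α ⟨g, hg, hα⟩
  exact ⟨⟨g, hSE hg⟩, MulEquiv.ext fun x => Subtype.ext (hα x).symm⟩

theorem inv_self : Inv Γ E := ⟨le_rfl, fun γ _ e _ => (γ e).2⟩

/-- the centralizer in `E` of an invariant subgroup is invariant -/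
theorem inv_cent {M : Subgroup Ω} (hM : Inv Γ M) : Inv Γ (E ⊓ Subgroup.centralizer (M : Set Ω)) := by
  refine ⟨inf_le_left, fun γ hγ e he => ?_⟩
  refine Subgroup.mem_inf.2 ⟨(γ e).2, ?_⟩
  rw [Subgroup.mem_centralizer_iff]
  intro m hm
  have h1 := hM.2 γ⁻¹ (Γ.inv_mem hγ) ⟨m, hM.1 hm⟩ hm
  have h2 := Subgroup.mem_centralizer_iff.1 (Subgroup.mem_inf.1 he).2 _ h1
  have h3 : (γ⁻¹ ⟨m, hM.1 hm⟩ : E) * e = e * (γ⁻¹ ⟨m, hM.1 hm⟩ : E) := Subtype.ext h2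
  have h4 := congrArg γ h3
  rw [map_mul, map_mul, MulAut.apply_inv_self] at h4
  exact congrArg Subtype.val h4

end gen

/-! ### The field -/

section fld

variable {F K : Type u} [Field F] [Field K] [Algebra F K] (φ : K ≃ₐ[F] K) [Cub φ]

theorem exists_tr_eq {s : K} (hs : s ≠ 0) (r : F) : ∃ h : K, tr φ (s * h) = r := by
  obtain ⟨y, hy⟩ := exists_tr_ne φ
  refine ⟨(r / tr φ y) • (s⁻¹ * y), ?_⟩
  rw [mul_smul_comm, mul_inv_cancel_left₀ hs, tr_smul, div_mul_cancel₀ _ hy]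

theorem perp_perp {s b : K} (hs : s ≠ 0) (h : ∀ x, tr φ (s * x) = 0 → tr φ (b * x) = 0) : ∃ κ : F, b = κ • s := by
  obtain ⟨h0, hh0⟩ := exists_tr_eq φ hs 1
  refine ⟨tr φ (b * h0), ?_⟩
  rw [← sub_eq_zero]
  apply tr_nondeg φ
  intro x
  have h1 := h (x - tr φ (s * x) • h0) (by
    rw [mul_sub, tr_sub, mul_smul_comm, tr_smul, hh0, mul_one, sub_self])
  rw [mul_sub, tr_sub, mul_smul_comm, tr_smul] at h1
  rw [sub_mul, tr_sub, smul_mul_assoc, tr_smul]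
  linear_combination h1

/-- two independent elements of `s^⊥` -/
theorem exists_indep {s : K} (hs : s ≠ 0) :
    ∃ t1 t2 : K, tr φ (s * t1) = 0 ∧ tr φ (s * t2) = 0 ∧ t1 ≠ 0 ∧ ∀ κ : F, t2 ≠ κ • t1 := by
  obtain ⟨θ, hθ⟩ := Cub.ne (φ := φ)
  refine ⟨s⁻¹ * (θ - φ θ), s⁻¹ * (θ ^ 2 - φ (θ ^ 2)), ?_, ?_, ?_, ?_⟩
  · rw [mul_inv_cancel_left₀ hs, tr_sub, tr_phi, sub_self]
  · rw [mul_inv_cancel_left₀ hs, tr_sub, tr_phi, sub_self]
  · exact mul_ne_zero (inv_ne_zero hs) (sub_ne_zero.2 hθ.symm)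
  · intro κ h
    have h1 : θ ^ 2 - φ (θ ^ 2) = algebraMap F K κ * (θ - φ θ) := by
      have h2 := congrArg (fun y => s * y) h
      simp only [Algebra.smul_def] at h2
      rw [mul_inv_cancel_left₀ hs] at h2
      rw [h2]
      have h3 : s * (algebraMap F K κ * (s⁻¹ * (θ - φ θ))) = algebraMap F K κ * (s * (s⁻¹ * (θ - φ θ))) := by ring
      rw [h3, mul_inv_cancel_left₀ hs]
    rw [map_pow] at h1
    have h2 : (θ - φ θ) * (θ + φ θ - algebraMap F K κ) = 0 := by linear_combination h1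
    have h3 := (mul_eq_zero.1 h2).resolve_left (sub_ne_zero.2 hθ.symm)
    have h4 := congrArg φ h3
    rw [map_sub, map_add, phi_coe, map_zero] at h4
    have h5 : φ (φ θ) = θ := by linear_combination h4 - h3
    have h6 := congrArg φ h5
    rw [phi3] at h6
    exact hθ h6.symm

/-- the trace form -/
noncomputable def trL : K →ₗ[F] K →ₗ[F] F :=
  LinearMap.mk₂ F (fun l x => tr φ (l * x)) (fun a b x => by rw [add_mul, tr_add])
    (fun r a x => by rw [smul_mul_assoc, tr_smul, smul_eq_mul]) (fun a x y => by rw [mul_add, tr_add])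
    (fun r a x => by rw [mul_smul_comm, tr_smul, smul_eq_mul])

theorem exists_perp [Finite K] {T : Submodule F K} (hT : T ≠ ⊤) : ∃ l : K, l ≠ 0 ∧ ∀ x ∈ T, tr φ (l * x) = 0 := by
  obtain ⟨f, hf, hTf⟩ := Submodule.exists_le_ker_of_lt_top T (lt_top_iff_ne_top.2 hT)
  have hinj : Function.Injective (trL φ) := by
    rw [← LinearMap.ker_eq_bot, LinearMap.ker_eq_bot']
    intro a ha
    apply tr_nondeg φ
    intro t
    exact LinearMap.congr_fun ha t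
  have hfin : Module.Finite F K := Module.Finite.of_finite
  have hsurj : Function.Surjective (trL φ) :=
    (LinearMap.injective_iff_surjective_of_finrank_eq_finrank (Subspace.dual_finrank_eq).symm).1 hinj
  obtain ⟨l, hl⟩ := hsurj f
  refine ⟨l, ?_, fun x hx => ?_⟩
  · rintro rfl
    apply hf
    rw [← hl, map_zero]
  · have h1 := LinearMap.mem_ker.1 (hTf hx)
    rw [← hl] at h1
    exact h1

/-- `c ⋆ ·` -/
noncomputable def crL (c : K) : K →ₗ[F] K where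
  toFun x := cr φ c x
  map_add' x y := cr_add_right φ c x y
  map_smul' r x := cr_smul_right φ r c x

theorem cr_sup_two [Finite K] (h2 : (2 : K) = 0) {c1 c2 : K} (h1 : c1 ≠ 0) (h12 : ∀ κ : F, c2 ≠ κ • c1) (b : K) :
    ∃ x y : K, b = cr φ c1 x + cr φ c2 y := by
  have hT : LinearMap.range (crL φ c1) ⊔ LinearMap.range (crL φ c2) = ⊤ := by
    by_contra hcon
    obtain ⟨l, hl, hlT⟩ := exists_perp φ hcon
    have h3 : cr φ l c1 = 0 := by
      apply tr_nondeg φ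
      intro x
      rw [tr_cr]
      exact hlT _ (Submodule.mem_sup_left ⟨x, rfl⟩)
    have h4 : cr φ l c2 = 0 := by
      apply tr_nondeg φ
      intro x
      rw [tr_cr]
      exact hlT _ (Submodule.mem_sup_right ⟨x, rfl⟩)
    obtain ⟨s1, hs1⟩ := cr_eq_zero_two φ h2 hl h3
    obtain ⟨s2, hs2⟩ := cr_eq_zero_two φ h2 hl h4
    have hs10 : s1 ≠ 0 := fun h => h1 (by rw [hs1, h, zero_smul])
    apply h12 (s2 / s1)
    rw [hs1, hs2, smul_smul, div_mul_cancel₀ _ hs10]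
  have hb : b ∈ LinearMap.range (crL φ c1) ⊔ LinearMap.range (crL φ c2) := by rw [hT]; trivial
  obtain ⟨y, ⟨x, rfl⟩, z, ⟨w, rfl⟩, h⟩ := Submodule.mem_sup.1 hb
  exact ⟨x, w, h.symm⟩

theorem cr_sup_sh [Finite K] (h2 : (2 : K) = 0) {t : K} (ht : t ≠ 0) (b : K) :
    ∃ (x : K) (r : F), b = cr φ t x + r • sh φ t := by
  have hT : LinearMap.range (crL φ t) ⊔ F ∙ (sh φ t) = ⊤ := by
    by_contra hcon
    obtain ⟨l, hl, hlT⟩ := exists_perp φ hcon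
    have h3 : cr φ l t = 0 := by
      apply tr_nondeg φ
      intro x
      rw [tr_cr]
      exact hlT _ (Submodule.mem_sup_left ⟨x, rfl⟩)
    obtain ⟨s1, hs1⟩ := cr_eq_zero_two φ h2 hl h3
    have h4 := hlT _ (Submodule.mem_sup_right (Submodule.mem_span_singleton_self (sh φ t)))
    have h5 : tr φ (sh φ t * t) = 0 := by
      have h6 : sh φ t * t = s1 • (l * sh φ t) := by
        nth_rw 2 [hs1]
        rw [mul_smul_comm, mul_comm]
      rw [h6, tr_smul, h4, mul_zero]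
    rw [tr_sh_mul] at h5
    have h2F : (2 : F) = 0 := by
      apply (algebraMap F K).injective
      rw [map_ofNat, map_zero, h2]
    have h7 : nm φ t = 0 := by linear_combination h5 - nm φ t * h2F
    exact ht ((nm_eq_zero φ).1 h7)
  have hb : b ∈ LinearMap.range (crL φ t) ⊔ F ∙ (sh φ t) := by rw [hT]; trivial
  obtain ⟨y, ⟨x, rfl⟩, z, hz, h⟩ := Submodule.mem_sup.1 hb
  obtain ⟨r, rfl⟩ := Submodule.mem_span_singleton.1 hz
  exact ⟨x, r, h.symm⟩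

/-- in odd characteristic there are `t ∈ s^⊥` with `t^# ∉ F s` -/
theorem exists_sh (h2 : (2 : K) ≠ 0) {s : K} (hs : s ≠ 0) :
    ∃ t : K, tr φ (s * t) = 0 ∧ t ≠ 0 ∧ ∀ κ : F, sh φ t ≠ κ • s := by
  obtain ⟨t1, t2, h1, h2', h3, h4⟩ := exists_indep φ hs
  by_contra hcon
  push Not at hcon
  have hc : ∀ t : K, tr φ (s * t) = 0 → ∃ κ : F, sh φ t = κ • s := by
    intro t ht
    by_cases ht0 : t = 0
    · exact ⟨0, by rw [ht0, sh_zero, zero_smul]⟩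
    · exact hcon t ht ht0
  obtain ⟨α, hα⟩ := hc t1 h1
  obtain ⟨β, hβ⟩ := hc t2 h2'
  obtain ⟨γ, hγ⟩ := hc (t1 + t2) (by rw [mul_add, tr_add, h1, h2', add_zero])
  have h5 : cr φ t1 t2 = (γ - α - β) • s := by
    rw [sh_add, hα, hβ] at hγ
    rw [sub_smul, sub_smul, ← hγ]
    ring
  have h6 : cr φ t1 t1 = (2 * α) • s := by
    rw [cr_self, hα, mul_smul]
    rw [Algebra.smul_def (2 : F), map_ofNat]
  have h7 : cr φ t1 ((γ - α - β) • t1 - (2 * α) • t2) = 0 := by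
    rw [sub_eq_add_neg, cr_add_right, cr_neg_right, cr_smul_right, cr_smul_right, h5, h6, smul_smul, smul_smul, mul_comm,
      add_neg_cancel]
  have h8 := (cr_eq_zero φ h2 h7).resolve_left h3
  by_cases hα0 : (2 * α) = 0
  · rw [hα0, zero_smul] at h6
    exact h3 ((cr_eq_zero φ h2 h6).elim id id)
  · apply h4 ((2 * α)⁻¹ * (γ - α - β))
    rw [mul_smul, sub_eq_zero.1 h8, smul_smul, inv_mul_cancel₀ hα0, one_smul]

end fld

/-! ### The group -/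

section grp

variable {F K : Type u} [Field F] [Field K] [Algebra F K] {φ : K ≃ₐ[F] K} [Cub φ]

theorem comm_x3g (x y : Sy φ) : (⁅x, y⁆).x3 =
    cr φ x.x1 y.x5 + y.x6 • sh φ x.x1 - cr φ y.x1 x.x5 - x.x6 • sh φ y.x1 := by
  have := congrArg Sy.x3 (comm_mul x y)
  rw [mul_x3, mul_x3, mul_x3, comm_x1] at this
  simp only [cr_zero_left, sh_zero, smul_zero, add_zero] at this
  linear_combination -this

theorem comm_x2g (x y : Sy φ) : (⁅x, y⁆).x2 =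
    tr φ (x.x1 * y.x3) + tr φ (sh φ x.x1 * y.x5) + y.x6 * nm φ x.x1
      - tr φ (y.x1 * x.x3) - tr φ (sh φ y.x1 * x.x5) - x.x6 * nm φ y.x1 := by
  have := congrArg Sy.x2 (comm_mul x y)
  rw [mul_x2, mul_x2, mul_x2, comm_x1] at this
  simp only [zero_mul, tr_zero, sh_zero, nm_zero, mul_zero, add_zero] at this
  linear_combination -this

/-! #### Elements with the same leading coordinate -/

theorem mem_of_x2 {P : Subgroup (Sy φ)} (hP : Z1 φ ≤ P) {g z : Sy φ} (hgP : g ∈ P) (hg : g ∈ Z2 φ) (hz : z ∈ Z2 φ)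
    (h : g.x2 = z.x2) : z ∈ P := by
  have h1 : g⁻¹ * z ∈ Z1 φ := by
    refine ⟨?_, ?_, ?_, ?_, ?_⟩
    · rw [mul_x1, inv_x1, hg.1, hz.1]; ring
    · rw [mul_x6, inv_x6, hg.2.1, hz.2.1]; ring
    · rw [mul_x5, inv_x5, hg.2.2.1, hz.2.2.1, hg.2.1, hz.2.1]; simp
    · rw [mul_x3, inv_x3, inv_x1, hg.2.2.2, hz.2.2.2, hg.2.1, hz.2.1, hg.1, hg.2.2.1]; simp [cr]
    · rw [mul_x2, inv_x2, inv_x1, h, hg.1, hg.2.1, hz.2.1]; simp [tr_zero, sh]
  have h2 : z = g * (g⁻¹ * z) := by group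
  rw [h2]
  exact P.mul_mem hgP (hP h1)

theorem mem_of_x3 {P : Subgroup (Sy φ)} (hP : Z2 φ ≤ P) {g z : Sy φ} (hgP : g ∈ P) (hg : g ∈ Z3 φ) (hz : z ∈ Z3 φ)
    (h : g.x3 = z.x3) : z ∈ P := by
  have h1 : g⁻¹ * z ∈ Z2 φ := by
    refine ⟨?_, ?_, ?_, ?_⟩
    · rw [mul_x1, inv_x1, hg.1, hz.1]; ring
    · rw [mul_x6, inv_x6, hg.2.1, hz.2.1]; ring
    · rw [mul_x5, inv_x5, hg.2.2, hz.2.2, hg.2.1, hz.2.1]; simp
    · rw [mul_x3, inv_x3, inv_x1, h, hg.2.1, hz.2.1, hg.1, hg.2.2]; simp [cr]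
  have h2 : z = g * (g⁻¹ * z) := by group
  rw [h2]
  exact P.mul_mem hgP (hP h1)

theorem mem_of_x5 {P : Subgroup (Sy φ)} (hP : Z3 φ ≤ P) {g z : Sy φ} (hgP : g ∈ P) (hg : g ∈ Z4 φ) (hz : z ∈ Z4 φ)
    (h : g.x5 = z.x5) : z ∈ P := by
  have h1 : g⁻¹ * z ∈ Z3 φ := by
    refine ⟨?_, ?_, ?_⟩
    · rw [mul_x1, inv_x1, hg.1, hz.1]; ring
    · rw [mul_x6, inv_x6, hg.2, hz.2]; ring
    · rw [mul_x5, inv_x5, inv_x1, h, hg.2, hz.2, hg.1]; simp
  have h2 : z = g * (g⁻¹ * z) := by group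
  rw [h2]
  exact P.mul_mem hgP (hP h1)

theorem mem_iff_x1 {E : Subgroup (Sy φ)} (hQ : Q1 φ ≤ E) (x : Sy φ) : x ∈ E ↔ u1 φ x.x1 ∈ E := by
  have h1 : x * (u1 φ x.x1)⁻¹ ∈ Q1 φ := by
    rw [mem_Q1, mul_x1, inv_x1]
    simp [u1]
  have h2 : x = (x * (u1 φ x.x1)⁻¹) * u1 φ x.x1 := by group
  constructor
  · intro hx
    have h3 : u1 φ x.x1 = (x * (u1 φ x.x1)⁻¹)⁻¹ * x := by group
    rw [h3]
    exact E.mul_mem (E.inv_mem (hQ h1)) hx
  · intro hx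
    rw [h2]
    exact E.mul_mem (hQ h1) hx

theorem exists_of_ne {E : Subgroup (Sy φ)} (hQ : Q1 φ ≤ E) (hne : E ≠ Q1 φ) : ∃ t : K, t ≠ 0 ∧ u1 φ t ∈ E := by
  by_contra hcon
  push Not at hcon
  apply hne
  refine le_antisymm (fun x hx => ?_) hQ
  by_contra hx1
  exact hcon x.x1 hx1 ((mem_iff_x1 hQ x).1 hx)

/-- `Φ` contains `Z2` -/
theorem Z2_le_phi {E P : Subgroup (Sy φ)} (hE : Com E E P) (hQ : Q1 φ ≤ E) {t : K} (ht : t ≠ 0) (htE : u1 φ t ∈ E) :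
    Z2 φ ≤ P := by
  have h1 : Z1 φ ≤ P := by
    intro z hz
    have h2 := hE (u6 φ z.x4) (hQ (u6_mem _)) (u2 φ 1) (hQ (Z4_le_Q1 (Z3_le_Z4 (Z2_le_Z3 (u2_mem _)))))
    rw [← commutatorElement_def, comm_Z2 (u2_mem 1)] at h2
    rw [eq_u4 hz]
    simpa [u6, u2] using h2
  intro z hz
  obtain ⟨b, hb⟩ := exists_tr_eq φ ht z.x2
  have h2 := hE (u1 φ t) htE (u3 φ b) (hQ (Z4_le_Q1 (Z3_le_Z4 (u3_mem _))))
  rw [← commutatorElement_def] at h2
  exact mem_of_x2 h1 h2 (comm_mem_Z2 (u3_mem b)) hz (by rw [comm_x2' (u3_mem b)]; exact hb)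

theorem exists_cr_mem {E P : Subgroup (Sy φ)} (hE : Com E E P) (hQ : Q1 φ ≤ E) {t : K} (htE : u1 φ t ∈ E) (c : K) :
    ∃ g ∈ P, g ∈ Z3 φ ∧ g.x3 = cr φ t c := by
  have h2 := hE (u1 φ t) htE (u5 φ c) (hQ (Z4_le_Q1 (u5_mem _)))
  rw [← commutatorElement_def] at h2
  exact ⟨_, h2, comm_mem_Z3 (u5_mem c), comm_x3 (u5_mem c)⟩

theorem exists_add_mem {P : Subgroup (Sy φ)} {b c : K} (hb : ∃ g ∈ P, g ∈ Z3 φ ∧ g.x3 = b)
    (hc : ∃ g ∈ P, g ∈ Z3 φ ∧ g.x3 = c) : ∃ g ∈ P, g ∈ Z3 φ ∧ g.x3 = b + c := by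
  obtain ⟨g, hg, hg3, rfl⟩ := hb
  obtain ⟨k, hk, hk3, rfl⟩ := hc
  refine ⟨g * k, P.mul_mem hg hk, (Z3 φ).mul_mem hg3 hk3, ?_⟩
  rw [mul_x3, hg3.1, hk3.2.1, cr_zero_left, zero_smul, add_zero, add_zero]

theorem exists_sh_mem {E P : Subgroup (Sy φ)} (hE : Com E E P) (hQ : Q1 φ ≤ E) {t : K} (htE : u1 φ t ∈ E) {κ : F}
    (hκE : u1 φ (κ • t) ∈ E) (hκ0 : κ ≠ 0) (hκ1 : κ ≠ 1) (r : F) : ∃ g ∈ P, g ∈ Z3 φ ∧ g.x3 = r • sh φ t := by
  have h1 := hE _ hκE (u6 φ (r / (κ * (κ - 1)))) (hQ (u6_mem _))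
  have h2 := hE _ htE (u6 φ (r / (κ * (κ - 1)) * κ)) (hQ (u6_mem _))
  rw [← commutatorElement_def] at h1 h2
  set g1 := ⁅u1 φ (κ • t), u6 φ (r / (κ * (κ - 1)))⁆ with hg1
  set g2 := ⁅u1 φ t, u6 φ (r / (κ * (κ - 1)) * κ)⁆ with hg2
  have a11 : g1.x1 = 0 := comm_x1 _ _
  have a16 : g1.x6 = 0 := comm_x6 _ _
  have a15 : g1.x5 = (r / (κ * (κ - 1)) * κ) • t := by
    rw [hg1, comm_x5]
    simp only [u1, u6, zero_smul, sub_zero, smul_smul]
  have a13 : g1.x3 = (r / (κ * (κ - 1)) * κ ^ 2) • sh φ t := by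
    rw [hg1, comm_x3g]
    simp only [u1, u6, zero_smul, sub_zero, cr_zero_right, zero_add, sh_smul, smul_smul]
  have a21 : g2.x1 = 0 := comm_x1 _ _
  have a26 : g2.x6 = 0 := comm_x6 _ _
  have a25 : g2.x5 = (r / (κ * (κ - 1)) * κ) • t := by
    rw [hg2, comm_x5]
    simp only [u1, u6, zero_smul, sub_zero]
  have a23 : g2.x3 = (r / (κ * (κ - 1)) * κ) • sh φ t := by
    rw [hg2, comm_x3g]
    simp only [u1, u6, zero_smul, sub_zero, cr_zero_right, zero_add]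
  refine ⟨g1 * g2⁻¹, P.mul_mem h1 (P.inv_mem h2), ⟨?_, ?_, ?_⟩, ?_⟩
  · rw [mul_x1, inv_x1, a11, a21]; ring
  · rw [mul_x6, inv_x6, a16, a26]; ring
  · rw [mul_x5, inv_x5, inv_x6, a15, a25, a26, a11]; simp
  · rw [mul_x3, inv_x3, inv_x6, a11, a21, a26, a13, a23]
    simp only [cr_zero_left, zero_smul, neg_zero, sub_zero, add_zero]
    rw [← sub_eq_add_neg, ← sub_smul]
    congr 1
    have : κ - 1 ≠ 0 := sub_ne_zero.2 hκ1
    field_simp

theorem Z3_le_of_forall {P : Subgroup (Sy φ)} (h2 : Z2 φ ≤ P) (hT : ∀ b : K, ∃ g ∈ P, g ∈ Z3 φ ∧ g.x3 = b) :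
    Z3 φ ≤ P := by
  intro z hz
  obtain ⟨g, hg, hg3, h⟩ := hT z.x3
  exact mem_of_x3 h2 hg hg3 hz h

/-- `Z3 ≤ Φ`, `p` odd -/
theorem Z3_le_odd [Finite K] (h2 : (2 : K) ≠ 0) {E P : Subgroup (Sy φ)} (hE : Com E E P) (hQ : Q1 φ ≤ E) {t : K}
    (ht : t ≠ 0) (htE : u1 φ t ∈ E) : Z3 φ ≤ P := by
  refine Z3_le_of_forall (Z2_le_phi hE hQ ht htE) fun b => ?_
  have hinj : Function.Injective (fun c => cr φ t c) := by
    intro c c' hcc
    have h1 : cr φ t (c - c') = 0 := by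
      have h3 : cr φ t c = cr φ t c' := hcc
      rw [sub_eq_add_neg, cr_add_right, cr_neg_right, h3, add_neg_cancel]
    exact sub_eq_zero.1 ((cr_eq_zero φ h2 h1).resolve_left ht)
  obtain ⟨c, hc⟩ := (Finite.injective_iff_surjective.1 hinj) b
  have hc' : cr φ t c = b := hc
  rw [← hc']
  exact exists_cr_mem hE hQ htE c

/-- `Z3 ≤ Φ`, `p = 2`, two independent elements -/
theorem Z3_le_two [Finite K] (h2 : (2 : K) = 0) {E P : Subgroup (Sy φ)} (hE : Com E E P) (hQ : Q1 φ ≤ E) {t1 t2 : K}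
    (ht : t1 ≠ 0) (ht1 : u1 φ t1 ∈ E) (ht2 : u1 φ t2 ∈ E) (h12 : ∀ κ : F, t2 ≠ κ • t1) : Z3 φ ≤ P := by
  refine Z3_le_of_forall (Z2_le_phi hE hQ ht ht1) fun b => ?_
  obtain ⟨x, y, rfl⟩ := cr_sup_two φ h2 ht h12 b
  exact exists_add_mem (exists_cr_mem hE hQ ht1 x) (exists_cr_mem hE hQ ht2 y)

/-- `Z3 ≤ Φ`, `p = 2`, `t` and `κ t` -/
theorem Z3_le_two' [Finite K] (h2 : (2 : K) = 0) {E P : Subgroup (Sy φ)} (hE : Com E E P) (hQ : Q1 φ ≤ E) {t : K}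
    (ht : t ≠ 0) (htE : u1 φ t ∈ E) {κ : F} (hκE : u1 φ (κ • t) ∈ E) (hκ0 : κ ≠ 0) (hκ1 : κ ≠ 1) : Z3 φ ≤ P := by
  refine Z3_le_of_forall (Z2_le_phi hE hQ ht htE) fun b => ?_
  obtain ⟨x, r, rfl⟩ := cr_sup_sh φ h2 ht b
  exact exists_add_mem (exists_cr_mem hE hQ htE x) (exists_sh_mem hE hQ htE hκE hκ0 hκ1 r)

/-- the quotient of `Z4` by `Z3` -/
def hom5 (φ : K ≃ₐ[F] K) [Cub φ] : Z4 φ →* Multiplicative K where
  toFun x := Multiplicative.ofAdd x.1.x5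
  map_one' := rfl
  map_mul' x y := by
    have h1 : ((x * y : Z4 φ) : Sy φ).x5 = x.1.x5 + y.1.x5 := by
      rw [Subgroup.coe_mul, mul_x5, y.2.2, zero_smul, add_zero]
    show Multiplicative.ofAdd ((x * y : Z4 φ) : Sy φ).x5 = _
    rw [h1]
    rfl

theorem hom5_surjective : Function.Surjective (hom5 φ) := fun a => ⟨⟨u5 φ a.toAdd, u5_mem _⟩, rfl⟩

theorem normIn_top {E : Subgroup (Sy φ)} (hZ : Z4 φ ≤ E) : normalizerIn ⊤ E = ⊤ := by
  have hn : E.Normal := normal_of_comm fun x y _ => hZ (comm_mem_Z4 x y)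
  rw [normalizerIn, Subgroup.normalizer_eq_top, top_inf_eq]

/-- the functional `x ↦ Tr(s x1)` -/
noncomputable def homT (φ : K ≃ₐ[F] K) [Cub φ] (s : K) : Sy φ →* Multiplicative F where
  toFun x := Multiplicative.ofAdd (tr φ (s * x.x1))
  map_one' := by
    show Multiplicative.ofAdd (tr φ (s * 0)) = _
    rw [mul_zero, tr_zero]; rfl
  map_mul' x y := by
    show Multiplicative.ofAdd (tr φ (s * (x.x1 + y.x1))) = _
    rw [mul_add, tr_add]; rfl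

theorem homT_surjective {s : K} (hs : s ≠ 0) : Function.Surjective (homT φ s) := fun a => by
  obtain ⟨h, hh⟩ := exists_tr_eq φ hs a.toAdd
  exact ⟨u1 φ h, congrArg Multiplicative.ofAdd hh⟩

end grp

/-! ### The shape of `E` and `Φ(E)` if `Z3 ≤ Φ(E)` -/

section lemA

variable {F K : Type u} [Field F] [Field K] [Finite F] [Finite K] [Algebra F K] {φ : K ≃ₐ[F] K} [Cub φ]
  {p : ℕ} [CharP K p] {E : Subgroup (Sy φ)} {Γ : Subgroup (MulAut E)}

theorem p_smul (x : K) : p • x = 0 := by rw [nsmul_eq_mul, CharP.cast_eq_zero, zero_mul]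

omit [CharP K p] in
theorem isPGroup_of_ess (h : Ess ⊤ E p Γ) : IsPGroup p E := by
  have h1 := h.pgr.of_injective (Subgroup.inclusion h.E_le) (Subgroup.inclusion_injective _)
  exact h1

theorem pow_mem_Z4 (x : Sy φ) : x ^ p ∈ Z4 φ := by
  refine ⟨?_, ?_⟩
  · have h1 : hom1 φ (x ^ p) = 1 := by
      rw [map_pow]
      show Multiplicative.ofAdd (p • x.x1) = 1
      rw [p_smul]
      rfl
    exact h1
  · have h1 : hom6 φ (x ^ p) = 1 := by
      rw [map_pow]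
      show Multiplicative.ofAdd (p • x.x6) = 1
      have h2 : p • x.x6 = 0 := by
        apply (algebraMap F K).injective
        rw [map_nsmul, p_smul, map_zero]
      rw [h2]
      rfl
    exact h1

theorem phi_le_Z4 (hphi : StPhi.{u}) (h : Ess ⊤ E p Γ) (hZ : Z4 φ ≤ E) : Phi E ≤ Z4 φ := by
  obtain ⟨-, -, -, h4, -, -⟩ := hphi E p h.pp inferInstance (isPGroup_of_ess h)
  exact h4 (Z4 φ) hZ (fun a _ b _ => comm_mem_Z4 a b) (fun x _ => pow_mem_Z4 x)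

theorem lemA (hphi : StPhi.{u}) (hp2 : StP2.{u}) (hp2w : StP2w.{u}) (h : Ess ⊤ E p Γ) (hQ : Q1 φ ≤ E)
    (hZ : Z3 φ ≤ Phi E) :
    ∃ s : K, s ≠ 0 ∧ (∀ x : Sy φ, x ∈ E ↔ tr φ (s * x.x1) = 0) ∧
      ∀ x : Sy φ, x ∈ Phi E ↔ x ∈ Z4 φ ∧ tr φ (s * x.x5) = 0 := by
  have hZ4 : Z4 φ ≤ E := Z4_le_Q1.trans hQ
  have hN : normalizerIn ⊤ E = ⊤ := normIn_top hZ4
  have hTE : ¬ (⊤ : Subgroup (Sy φ)) ≤ E := not_le_of_ess h
  obtain ⟨hΦE, hEE, -, -, -, -⟩ := hphi E p h.pp inferInstance (isPGroup_of_ess h)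
  have hΦ4 : Phi E ≤ Z4 φ := phi_le_Z4 hphi h hZ4
  -- the index inequality
  have i1 : E.index ≤ (Phi E).relIndex (Z4 φ) := by
    have := hp2 h ⊤ ⊤ (Z4 φ) (Z4 φ) (Phi E) (Phi E) hN.ge hN.ge hTE hZ4 hZ4 (fun a _ b _ => comm_mem_Z4 a b)
      (fun a _ b _ => comm_mem_Z4 a b) le_rfl le_rfl
    rw [Subgroup.relIndex_top_right, ← sq] at this
    exact (Nat.pow_le_pow_iff_left two_ne_zero).1 this
  set B : Subgroup (Multiplicative K) := E.map (hom1 φ) with hB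
  set P : Subgroup (Multiplicative K) := ((Phi E).subgroupOf (Z4 φ)).map (hom5 φ) with hP
  have i2 : B.index = E.index := Subgroup.index_map_eq E hom1_surjective (by rw [ker_hom1]; exact hQ)
  have i3 : P.index = (Phi E).relIndex (Z4 φ) := by
    refine Subgroup.index_map_eq _ hom5_surjective ?_
    intro x hx
    rw [Subgroup.mem_subgroupOf]
    exact hZ ⟨x.2.1, x.2.2, hx⟩
  have hBP : B ≤ P := by
    rintro _ ⟨e, he, rfl⟩
    have h1 : u1 φ e.x1 ∈ E := (mem_iff_x1 hQ e).1 he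
    have h2 := hEE _ h1 (u6 φ 1) (hQ (u6_mem _))
    rw [← commutatorElement_def] at h2
    refine ⟨⟨_, comm_mem_Z4 _ _⟩, Subgroup.mem_subgroupOf.2 h2, ?_⟩
    show Multiplicative.ofAdd (⁅u1 φ e.x1, u6 φ 1⁆).x5 = Multiplicative.ofAdd e.x1
    rw [comm_x5]
    simp [u1, u6]
  have hPB : P ≤ B := by
    rw [← Subgroup.relIndex_eq_one]
    have h1 := Subgroup.relIndex_mul_index hBP
    have h2 : P.index ≠ 0 := Subgroup.index_ne_zero_of_finite
    have h3 : B.relIndex P ≠ 0 := by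
      intro h0
      rw [h0, zero_mul] at h1
      exact Subgroup.index_ne_zero_of_finite h1.symm
    have h4 : B.relIndex P * P.index ≤ 1 * P.index := by rw [h1, one_mul, i2, i3]; exact i1
    have h5 := Nat.le_of_mul_le_mul_right h4 (Nat.pos_of_ne_zero h2)
    omega
  have hΦ : ∀ x : Sy φ, x ∈ Z4 φ → (x ∈ Phi E ↔ u1 φ x.x5 ∈ E) := by
    intro x hx
    constructor
    · intro hxP
      have h1 : hom5 φ ⟨x, hx⟩ ∈ P := ⟨⟨x, hx⟩, Subgroup.mem_subgroupOf.2 hxP, rfl⟩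
      obtain ⟨e, he, h2⟩ := hPB h1
      have h3 : e.x1 = x.x5 := h2
      rw [← h3]
      exact (mem_iff_x1 hQ e).1 he
    · intro hxE
      have h2 := hEE _ hxE (u6 φ 1) (hQ (u6_mem _))
      rw [← commutatorElement_def] at h2
      refine mem_of_x5 hZ h2 (comm_mem_Z4 _ _) hx ?_
      rw [comm_x5]
      simp [u1, u6]
  -- the subspace
  let T : Submodule F K :=
    { carrier := {a | u1 φ a ∈ E}
      add_mem' := fun {a b} ha hb => by
        show u1 φ (a + b) ∈ E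
        rw [u1_add]; exact E.mul_mem ha hb
      zero_mem' := E.one_mem
      smul_mem' := fun r a ha => by
        have h2 := hEE _ ha (u6 φ r) (hQ (u6_mem _))
        rw [← commutatorElement_def] at h2
        have h3 := (hΦ _ (comm_mem_Z4 _ _)).1 h2
        rw [comm_x5] at h3
        simp only [u1, u6, zero_smul, sub_zero] at h3
        exact h3 }
  have hTm : ∀ a : K, a ∈ T ↔ u1 φ a ∈ E := fun a => Iff.rfl
  have hTtop : T ≠ ⊤ := by
    intro hT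
    apply hTE
    intro x _
    rw [mem_iff_x1 hQ, ← hTm, hT]
    trivial
  obtain ⟨l, hl, hlT⟩ := exists_perp φ hTtop
  -- the second inequality
  have i4 : E.index ≤ Nat.card F := by
    have := hp2w h ⊤ ⊤ (E ⊓ Q2 φ) (E ⊓ Q2 φ) hN.ge hN.ge hTE inf_le_left inf_le_left ?_ ?_
    · rw [Subgroup.relIndex_top_right, ← sq] at this
      have h1 := (Nat.pow_le_pow_iff_left two_ne_zero).1 this
      rw [Subgroup.inf_relIndex_left] at h1
      have h2 : (Q2 φ).relIndex E ≤ (Q2 φ).index :=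
        Nat.le_of_dvd (Nat.pos_of_ne_zero Subgroup.index_ne_zero_of_finite) (Subgroup.relIndex_dvd_index_of_normal _ _)
      rw [index_Q2] at h2
      exact h1.trans h2
    all_goals
      intro g _ x hx
      obtain ⟨hx1, hx2⟩ := Subgroup.mem_inf.1 hx
      rw [mem_Q2] at hx2
      rw [← commutatorElement_def, hΦ _ (comm_mem_Z4 _ _), ← hTm, comm_x5, hx2, zero_smul, zero_sub]
      exact T.neg_mem (T.smul_mem _ ((hTm _).2 ((mem_iff_x1 hQ x).1 hx1)))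
  have hEL : E ≤ (homT φ l).ker := by
    intro x hx
    exact congrArg Multiplicative.ofAdd (hlT x.x1 ((mem_iff_x1 hQ x).1 hx))
  have hLE : (homT φ l).ker ≤ E := by
    rw [← Subgroup.relIndex_eq_one]
    have h1 := Subgroup.relIndex_mul_index hEL
    have h2 : (homT φ l).ker.index = Nat.card F := by
      rw [Subgroup.index_ker, MonoidHom.range_eq_top.2 (homT_surjective hl)]
      exact Subgroup.card_top
    have h3 : E.relIndex (homT φ l).ker ≠ 0 := by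
      intro h0
      rw [h0, zero_mul] at h1
      exact Subgroup.index_ne_zero_of_finite h1.symm
    have h4 : E.relIndex (homT φ l).ker * (homT φ l).ker.index ≤ 1 * (homT φ l).ker.index := by
      rw [h1, one_mul, h2]; exact i4
    have h5 := Nat.le_of_mul_le_mul_right h4 (Nat.pos_of_ne_zero Subgroup.index_ne_zero_of_finite)
    omega
  have hE : ∀ x : Sy φ, x ∈ E ↔ tr φ (l * x.x1) = 0 := fun x => ⟨fun hx => hEL hx, fun hx => hLE hx⟩
  refine ⟨l, hl, hE, fun x => ?_⟩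
  constructor
  · intro hx
    exact ⟨hΦ4 hx, (hE _).1 ((hΦ x (hΦ4 hx)).1 hx)⟩
  · rintro ⟨hx4, hx5⟩
    exact (hΦ x hx4).2 ((hE _).2 hx5)

end lemA

/-! ### The plane case -/

section plane

variable {F K : Type u} [Field F] [Field K] [Finite F] [Finite K] [Algebra F K] {φ : K ≃ₐ[F] K} [Cub φ]
  {p : ℕ} [CharP K p] {E : Subgroup (Sy φ)} {Γ : Subgroup (MulAut E)}

omit [Finite F] [Finite K] in
theorem conj_comm_E (γ : MulAut E) (w e : E) :
    ⁅((γ w : E) : Sy φ), ⁅((γ w : E) : Sy φ), ((γ e : E) : Sy φ)⁆⁆ = ((γ ⁅w, ⁅w, e⁆⁆ : E) : Sy φ) := by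
  rw [map_commutatorElement, map_commutatorElement]
  rfl

omit [Finite F] [Finite K] in
/-- `[w, [w, e]]` for an involution `w ∈ Q2`, `p = 2` -/
theorem comm_comm_two (h2 : (2 : K) = 0) {w : Sy φ} (hw : w * w = 1) (hw6 : w.x6 = 0) (e : Sy φ) :
    ⁅w, ⁅w, e⁆⁆ = u4 φ (e.x6 ^ 2 * nm φ w.x1) := by
  have h2F : (2 : F) = 0 := by
    apply (algebraMap F K).injective
    rw [map_ofNat, map_zero, h2]
  have hinv : w⁻¹ = w := inv_eq_of_mul_eq_one_right hw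
  set z := ⁅w, e⁆ with hz
  have hzz : ⁅w, z⁆ = (z * z)⁻¹ := by
    rw [hz]
    simp only [commutatorElement_def, mul_inv_rev, inv_inv]
    rw [hinv]
    have h3 : w * (w * e * w * e⁻¹) * w * (e * (w * (e⁻¹ * w))) = (w * w) * e * w * e⁻¹ * w * (e * (w * (e⁻¹ * w))) := by
      group
    rw [h3, hw, one_mul]
    simp only [mul_assoc]
  have hz1 : z.x1 = 0 := comm_x1 _ _
  have hz6 : z.x6 = 0 := comm_x6 _ _
  have hz5 : z.x5 = e.x6 • w.x1 := by rw [hz, comm_x5, hw6, zero_smul, sub_zero]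
  have hz3 : z.x3 = cr φ w.x1 e.x5 + e.x6 • sh φ w.x1 - cr φ e.x1 w.x5 := by
    rw [hz, comm_x3g, hw6, zero_smul, sub_zero]
  -- `w.x5` is a multiple of `w.x1`
  have h5 : cr φ w.x1 w.x5 = 0 := by
    have := congrArg Sy.x3 hw
    rw [mul_x3, hw6, zero_smul, add_zero, one_x3] at this
    linear_combination this - w.x3 * h2
  have h4 : tr φ (z.x3 * z.x5) = e.x6 ^ 2 * nm φ w.x1 := by
    rw [hz3, hz5]
    have a1 : tr φ (cr φ w.x1 e.x5 * w.x1) = 0 := by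
      rw [cr_comm, tr_cr, cr_self, h2, zero_mul, mul_zero, tr_zero]
    have a2 : tr φ (cr φ e.x1 w.x5 * w.x1) = 0 := by
      rw [tr_cr, cr_comm φ w.x5 w.x1, h5, mul_zero, tr_zero]
    have a3 : tr φ (sh φ w.x1 * w.x1) = nm φ w.x1 := by
      rw [tr_sh_mul]
      linear_combination nm φ w.x1 * h2F
    rw [mul_smul_comm, tr_smul, sub_mul, add_mul, tr_sub, tr_add, a1, a2, smul_mul_assoc, tr_smul, a3]
    ring
  have hneg : ∀ r : F, -r = r := fun r => by linear_combination -r * h2F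
  have hzsq : z * z = u4 φ (e.x6 ^ 2 * nm φ w.x1) := by
    ext
    · rw [mul_x1, hz1]; simp [u4]
    · rw [mul_x6, hz6]; simp [u4]
    · rw [mul_x5, hz6, zero_smul, add_zero]
      simp only [u4]
      linear_combination z.x5 * h2
    · rw [mul_x3, hz1, hz6, cr_zero_left, zero_smul, add_zero, add_zero]
      simp only [u4]
      linear_combination z.x3 * h2
    · rw [mul_x2, hz1, hz6, zero_mul, tr_zero, sh_zero, zero_mul, tr_zero, zero_mul, add_zero, add_zero, add_zero]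
      simp only [u4]
      linear_combination z.x2 * h2F
    · rw [mul_x4, hz1, hz6, zero_smul, add_zero, h4]
      simp only [u4, zero_mul, tr_zero, sh_zero, mul_zero, add_zero, sub_zero, nm_zero]
      linear_combination z.x4 * h2F
  rw [hzz, hzsq]
  ext
  · rw [inv_x1]; simp [u4]
  · rw [inv_x6]; simp [u4]
  · rw [inv_x5]; simp [u4]
  · rw [inv_x3]; simp [u4, cr]
  · rw [inv_x2]; simp [u4, tr_zero]
  · rw [inv_x4]
    simp only [u4]
    simp [tr_zero, nm_zero, sh_zero, hneg]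

theorem plane_false (hphi : StPhi.{u}) (hl : StL.{u}) (hch : StCh.{u}) (h : Ess ⊤ E p Γ) {s : K} (hs : s ≠ 0)
    (hE : ∀ x : Sy φ, x ∈ E ↔ tr φ (s * x.x1) = 0)
    (hΦ : ∀ x : Sy φ, x ∈ Phi E ↔ x ∈ Z4 φ ∧ tr φ (s * x.x5) = 0) : False := by
  obtain ⟨hΦE, -, -, -, hinv, hnorm⟩ := hphi E p h.pp inferInstance (isPGroup_of_ess h)
  have hQ : Q1 φ ≤ E := fun x hx => (hE x).2 (by rw [mem_Q1.1 hx, mul_zero, tr_zero])
  have hZ4E : Z4 φ ≤ E := Z4_le_Q1.trans hQ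
  have hZ3 : Z3 φ ≤ Phi E := fun x hx => (hΦ x).2 ⟨Z3_le_Z4 hx, by rw [hx.2.2, mul_zero, tr_zero]⟩
  have hN : normalizerIn ⊤ E = ⊤ := normIn_top hZ4E
  set D : Subgroup (Sy φ) := E ⊓ Subgroup.centralizer (Phi E : Set (Sy φ)) with hD
  set C : Subgroup (Sy φ) := E ⊓ Subgroup.centralizer (D : Set (Sy φ)) with hC
  have hDinv : Inv Γ D := inv_cent (hinv Γ)
  have hCinv : Inv Γ C := inv_cent hDinv
  -- elements of `D`
  have hD3 : ∀ x ∈ D, x ∈ Z3 φ ∧ ∃ κ : F, x.x3 = κ • s := by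
    intro x hx
    have h1 := (Subgroup.mem_inf.1 hx).2
    have h2 : x ∈ Z3 φ := by
      rw [← centralizer_Z3]
      exact Subgroup.centralizer_le hZ3 h1
    refine ⟨h2, perp_perp φ hs fun c hc => ?_⟩
    rw [mem_centralizer] at h1
    have h3 := h1 (u5 φ c) ((hΦ _).2 ⟨u5_mem c, hc⟩)
    rw [comm_Q1 h2.1 (u5_mem c).1, form, h2.2.1, h2.2.2] at h3
    have h4 := congrArg Sy.x4 h3
    simpa [u4, u5, tr_zero] using h4
  have hZ2D : Z2 φ ≤ D := by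
    intro x hx
    refine Subgroup.mem_inf.2 ⟨hZ4E (Z3_le_Z4 (Z2_le_Z3 hx)), ?_⟩
    rw [← centralizer_Z4] at hx
    exact Subgroup.centralizer_le (fun y hy => ((hΦ y).1 hy).1) hx
  -- elements of `C`
  have hCm : ∀ x : Sy φ, x ∈ E → x.x6 = 0 → tr φ (s * x.x5) = 0 → x ∈ C := by
    intro x hxE hx6 hx5
    refine Subgroup.mem_inf.2 ⟨hxE, ?_⟩
    rw [mem_centralizer]
    intro y hy
    obtain ⟨hy3, κ, hκ⟩ := hD3 y hy
    have h1 := comm_mem_Z2 (x := x) hy3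
    have h3 : tr φ (x.x1 * y.x3) = 0 := by
      rw [hκ, mul_smul_comm, tr_smul, mul_comm x.x1, (hE x).1 hxE, mul_zero]
    ext
    · exact h1.1
    · exact h1.2.1
    · exact h1.2.2.1
    · exact h1.2.2.2
    · rw [comm_x2' hy3, h3]; rfl
    · rw [comm_x4' hy3, h3, hx6, hκ, smul_mul_assoc, tr_smul, hx5]
      simp
  have hCQ2 : C ≤ Q2 φ := by
    intro x hx
    rw [← centralizer_Z2]
    exact Subgroup.centralizer_le hZ2D (Subgroup.mem_inf.1 hx).2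
  have hΦC : Phi E ≤ C := fun x hx => hCm x (hΦE hx) ((hΦ x).1 hx).1.2 ((hΦ x).1 hx).2
  -- `S` is trivial on `(E ∩ Q2) / Φ`
  have hcomX : Com ⊤ (E ⊓ Q2 φ) (Phi E) := by
    intro g _ x hx
    obtain ⟨hx1, hx2⟩ := Subgroup.mem_inf.1 hx
    rw [mem_Q2] at hx2
    rw [← commutatorElement_def, hΦ]
    refine ⟨comm_mem_Z4 _ _, ?_⟩
    rw [comm_x5, hx2, zero_smul, zero_sub, mul_neg, tr_neg, mul_smul_comm, tr_smul, (hE x).1 hx1, mul_zero, neg_zero]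
  have hcomC : Com ⊤ C (Phi E) := fun g hg x hx => hcomX g hg x (Subgroup.mem_inf.2 ⟨(Subgroup.mem_inf.1 hx).1, hCQ2 hx⟩)
  obtain ⟨L, hLΓ, hL, hLN⟩ := hl h
  have hLD : Inv L D := ⟨hDinv.1, fun γ hγ => hDinv.2 γ (hLΓ hγ)⟩
  have hLC : Inv L C := ⟨hCinv.1, fun γ hγ => hCinv.2 γ (hLΓ hγ)⟩
  have hkey := hLN (Phi E) C (hinv L) hLC hΦC
    (fun m hm n hn => hnorm m (Subgroup.le_normalizer ((Subgroup.mem_inf.1 hm).1)) n hn) (by rw [hN]; exact hcomC)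
  have hw' : ∀ γ ∈ L, ∀ w : E, (w : Sy φ) ∈ C →
      ((γ w : E) : Sy φ).x1 = (w : Sy φ).x1 ∧ ((γ w : E) : Sy φ).x6 = (w : Sy φ).x6 := by
    intro γ hγ w hw
    have h1 := ((hΦ _).1 (hkey γ hγ w hw)).1
    have h2 := h1.1
    have h3 := h1.2
    rw [mul_x1, inv_x1] at h2
    rw [mul_x6, inv_x6] at h3
    exact ⟨by linear_combination h2, by linear_combination h3⟩
  -- invariance of `X = E ∩ Q2`
  have hX : Inv L (E ⊓ Q2 φ) := by
    refine ⟨inf_le_left, fun γ hγ e he => Subgroup.mem_inf.2 ⟨(γ e).2, ?_⟩⟩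
    have he6 : (e : Sy φ).x6 = 0 := (Subgroup.mem_inf.1 he).2
    rw [mem_Q2]
    by_cases h2 : (2 : K) = 0
    · obtain ⟨t, -, ht, -, ht0, -⟩ := exists_indep φ hs
      have htE : u1 φ t ∈ E := (hE _).2 ht
      set w : E := ⟨u1 φ t, htE⟩ with hw
      have hwC : (w : Sy φ) ∈ C := hCm _ htE rfl (by
        show tr φ (s * 0) = 0
        rw [mul_zero, tr_zero])
      have hww : w * w = 1 := by
        refine Subtype.ext ?_
        show u1 φ t * u1 φ t = 1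
        rw [← u1_add]
        have : t + t = 0 := by linear_combination t * h2
        rw [this]
        rfl
      obtain ⟨a1, a6⟩ := hw' γ hγ w hwC
      have b1 : ((⁅w, ⁅w, e⁆⁆ : E) : Sy φ) = 1 := by
        have := comm_comm_two h2 (w := (w : Sy φ)) (by rw [← Subgroup.coe_mul, hww]; rfl) rfl (e : Sy φ)
        rw [he6] at this
        have h3 : ((⁅w, ⁅w, e⁆⁆ : E) : Sy φ) = ⁅(w : Sy φ), ⁅(w : Sy φ), (e : Sy φ)⁆⁆ := rfl
        rw [h3, this]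
        simp [u4]
        rfl
      have b2 : ⁅w, ⁅w, e⁆⁆ = 1 := Subtype.ext b1
      have b3 := conj_comm_E γ w e
      rw [b2, map_one] at b3
      have b4 := comm_comm_two h2 (w := ((γ w : E) : Sy φ)) (by
        rw [← Subgroup.coe_mul, ← map_mul, hww, map_one]; rfl) (a6.trans rfl) ((γ e : E) : Sy φ)
      rw [b3, a1] at b4
      have b5 := congrArg Sy.x4 b4
      have b6 : (0 : F) = ((γ e : E) : Sy φ).x6 ^ 2 * nm φ t := b5
      have b7 : nm φ t ≠ 0 := fun h => ht0 ((nm_eq_zero φ).1 h)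
      exact pow_eq_zero_iff (two_ne_zero) |>.1 ((mul_eq_zero.1 b6.symm).resolve_right b7)
    · obtain ⟨t, ht, ht0, hts⟩ := exists_sh φ h2 hs
      have htE : u1 φ t ∈ E := (hE _).2 ht
      set w : E := ⟨u1 φ t, htE⟩ with hw
      have hwC : (w : Sy φ) ∈ C := hCm _ htE rfl (by
        show tr φ (s * 0) = 0
        rw [mul_zero, tr_zero])
      obtain ⟨a1, a6⟩ := hw' γ hγ w hwC
      have hx3 : ∀ (w : Sy φ), w.x6 = 0 → ∀ e : Sy φ, ⁅w, ⁅w, e⁆⁆ ∈ Z3 φ ∧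
          (⁅w, ⁅w, e⁆⁆).x3 = (2 * e.x6) • sh φ w.x1 := by
        intro w hw6 e
        refine ⟨comm_mem_Z3 (comm_mem_Z4 _ _), ?_⟩
        rw [comm_x3 (comm_mem_Z4 _ _), comm_x5, hw6, zero_smul, sub_zero, cr_smul_right, cr_self, mul_comm (2 : F),
          mul_smul, Algebra.smul_def (2 : F), map_ofNat]
      have b1 : ((⁅w, ⁅w, e⁆⁆ : E) : Sy φ) ∈ D := by
        obtain ⟨c1, c2⟩ := hx3 (w : Sy φ) rfl (e : Sy φ)
        rw [he6, mul_zero, zero_smul] at c2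
        exact hZ2D ⟨c1.1, c1.2.1, c1.2.2, c2⟩
      have b2 := hLD.2 γ hγ _ b1
      rw [← conj_comm_E] at b2
      obtain ⟨-, κ, hκ⟩ := hD3 _ b2
      rw [(hx3 _ (a6.trans rfl) _).2, a1] at hκ
      by_contra hne
      have h2F : (2 : F) ≠ 0 := by
        intro h3
        apply h2
        rw [← map_ofNat (algebraMap F K) 2]
        show algebraMap F K 2 = 0
        rw [h3, map_zero]
      apply hts ((2 * ((γ e : E) : Sy φ).x6)⁻¹ * κ)
      have h4 : (2 * ((γ e : E) : Sy φ).x6) ≠ 0 := mul_ne_zero h2F hne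
      have h5 : sh φ t = (2 * ((γ e : E) : Sy φ).x6)⁻¹ • ((2 * ((γ e : E) : Sy φ).x6) • sh φ t) := by
        rw [smul_smul, inv_mul_cancel₀ h4, one_smul]
      have hκ' : (2 * ((γ e : E) : Sy φ).x6) • sh φ t = κ • s := hκ
      rw [h5, hκ', smul_smul]
  -- the chain
  refine not_le_of_ess h (hch hL 2 (fun i => if i = 0 then Phi E else if i = 1 then E ⊓ Q2 φ else E) ?_ ?_ ?_ ?_ ⊤ le_rfl ?_)
  · exact le_rfl
  · rfl
  · intro i hi
    interval_cases i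
    · exact hinv L
    · exact hX
    · exact inv_self
  · intro i hi
    interval_cases i
    · exact le_inf hΦE (hΦC.trans hCQ2)
    · exact inf_le_left
  · intro i hi
    interval_cases i
    · exact hcomX
    · intro g _ x hx
      show g * x * g⁻¹ * x⁻¹ ∈ E ⊓ Q2 φ
      rw [← commutatorElement_def]
      exact ⟨hZ4E (comm_mem_Z4 g x), Z4_le_Q2 (comm_mem_Z4 g x)⟩

end plane

/-! ### `|E : Q1| = 2` -/

section two

variable {F K : Type u} [Field F] [Field K] [Finite F] [Finite K] [Algebra F K] {φ : K ≃ₐ[F] K} [Cub φ]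
  [CharP K 2] {E : Subgroup (Sy φ)} {Γ : Subgroup (MulAut E)}

omit [Finite F] [Finite K] [CharP K 2] in
/-- `[v, [v, g]]` for `v ∈ Q1` -/
theorem comm_comm_Q1 (h2F : (2 : F) = 0) {v : Sy φ} (hv : v ∈ Q1 φ) (g : Sy φ) :
    ⁅v, ⁅v, g⁆⁆ = u4 φ (v.x6 ^ 2 * nm φ g.x1) := by
  have hv1 : v.x1 = 0 := hv
  have hz5 : (⁅v, g⁆).x5 = -(v.x6 • g.x1) := by rw [comm_x5, hv1, smul_zero, zero_sub]
  have hz3 : (⁅v, g⁆).x3 = -cr φ g.x1 v.x5 - v.x6 • sh φ g.x1 := by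
    rw [comm_x3g, hv1, cr_zero_left, sh_zero, smul_zero, add_zero, zero_sub]
  have hz2 : (⁅v, g⁆).x2 = -tr φ (g.x1 * v.x3) - tr φ (sh φ g.x1 * v.x5) - v.x6 * nm φ g.x1 := by
    rw [comm_x2g, hv1, zero_mul, tr_zero, sh_zero, zero_mul, tr_zero, nm_zero, mul_zero, zero_add, zero_add, zero_sub]
  rw [comm_Q1 hv (comm_x1 v g), form, hz2, hz3, hz5, comm_x6, mul_zero, sub_zero]
  congr 1
  have a1 : tr φ (v.x5 * (-cr φ g.x1 v.x5 - v.x6 • sh φ g.x1)) =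
      -(2 * tr φ (g.x1 * sh φ v.x5)) - v.x6 * tr φ (sh φ g.x1 * v.x5) := by
    have b1 : v.x5 * (-cr φ g.x1 v.x5 - v.x6 • sh φ g.x1) =
        -(cr φ g.x1 v.x5 * v.x5) - v.x6 • (sh φ g.x1 * v.x5) := by
      rw [mul_sub, mul_neg, mul_smul_comm, mul_comm v.x5 (cr φ g.x1 v.x5), mul_comm v.x5 (sh φ g.x1)]
    have b2 : g.x1 * (2 * sh φ v.x5) = (2 : F) • (g.x1 * sh φ v.x5) := by
      rw [Algebra.smul_def, map_ofNat]; ring
    rw [b1, tr_sub, tr_neg, tr_smul, tr_cr, cr_self, b2, tr_smul]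
  have a2 : tr φ (v.x3 * -(v.x6 • g.x1)) = -(v.x6 * tr φ (g.x1 * v.x3)) := by
    rw [mul_neg, tr_neg, mul_smul_comm, tr_smul, mul_comm v.x3]
  rw [a1, a2]
  linear_combination (-v.x6 * tr φ (g.x1 * v.x3) - v.x6 ^ 2 * nm φ g.x1 + tr φ (g.x1 * sh φ v.x5)) * h2F

theorem stE2c (hphi : StPhi.{u}) (hch : StCh.{u}) : StE2c.{u} := by
  intro F K _ _ _ _ _ φ _ _ E Γ h a ha hE
  have h2K : (2 : K) = 0 := CharTwo.two_eq_zero
  have h2F : (2 : F) = 0 := by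
    apply (algebraMap F K).injective
    rw [map_ofNat, map_zero, h2K]
  obtain ⟨hΦE, hEE, -, hleast, hinv, hnorm⟩ := hphi E 2 h.pp inferInstance (isPGroup_of_ess h)
  have hQ : Q1 φ ≤ E := fun x hx => (hE x).2 (Or.inl hx)
  have hZ4E : Z4 φ ≤ E := Z4_le_Q1.trans hQ
  have haE : u1 φ a ∈ E := (hE _).2 (Or.inr rfl)
  have hZ2 : Z2 φ ≤ Phi E := Z2_le_phi hEE hQ ha haE
  have hNE : ∀ x : Sy φ, x ∈ E → x ∉ Q1 φ → x.x1 = a := fun x hx hx1 => ((hE x).1 hx).resolve_left hx1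
  -- `Z1` is invariant
  have hZ1 : E ⊓ Subgroup.centralizer (E : Set (Sy φ)) = Z1 φ := by
    apply le_antisymm
    · intro x hx
      rw [← centralizer_Q1]
      exact Subgroup.centralizer_le hQ (Subgroup.mem_inf.1 hx).2
    · intro x hx
      refine Subgroup.mem_inf.2 ⟨hZ4E (Z3_le_Z4 (Z2_le_Z3 (Z1_le_Z2 hx))), ?_⟩
      rw [mem_centralizer]
      intro y _
      rw [← commutatorElement_inv, comm_Z1 hx, inv_one]
  have hZ1inv : Inv Γ (Z1 φ) := by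
    rw [← hZ1]
    exact inv_cent inv_self
  -- `Q1` is invariant
  have hQ1inv : Inv Γ (Q1 φ) := by
    refine ⟨hQ, fun γ hγ e he => ?_⟩
    by_contra hb
    have hb1 : ((γ e : E) : Sy φ).x1 = a := hNE _ (γ e).2 hb
    -- `γ⁻¹ y ∈ Q1` implies `[γ e, y] ∈ Z1`
    have key : ∀ y : E, ((γ⁻¹ y : E) : Sy φ) ∈ Q1 φ → ⁅((γ e : E) : Sy φ), (y : Sy φ)⁆ ∈ Z1 φ := by
      intro y hy
      have h1 : ((⁅e, γ⁻¹ y⁆ : E) : Sy φ) ∈ Z1 φ := by
        have h3 : ((⁅e, γ⁻¹ y⁆ : E) : Sy φ) = ⁅(e : Sy φ), ((γ⁻¹ y : E) : Sy φ)⁆ := rfl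
        rw [h3, comm_Q1 he hy]
        exact u4_mem _
      have h3 := hZ1inv.2 γ hγ _ h1
      rw [map_commutatorElement, MulAut.apply_inv_self] at h3
      exact h3
    obtain ⟨c, hc⟩ : ∃ c : K, cr φ a c ≠ 0 := by
      by_contra hcon
      push Not at hcon
      exact ha (cr_nondeg' φ hcon)
    set y1 : E := ⟨u6 φ 1, hQ (u6_mem 1)⟩ with hy1
    set y2 : E := ⟨u5 φ c, hZ4E (u5_mem c)⟩ with hy2
    have n1 : ((γ⁻¹ y1 : E) : Sy φ) ∉ Q1 φ := by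
      intro hy
      have h3 := (key y1 hy).2.2.1
      rw [comm_x5, hb1] at h3
      simp only [hy1, u6, one_smul, smul_zero, sub_zero] at h3
      exact ha h3
    have n2 : ((γ⁻¹ y2 : E) : Sy φ) ∉ Q1 φ := by
      intro hy
      have h3 := (key y2 hy).2.2.2.1
      rw [comm_x3 (u5_mem c), hb1] at h3
      exact hc h3
    have m1 := hNE _ (γ⁻¹ y1).2 n1
    have m2 := hNE _ (γ⁻¹ y2).2 n2
    have m3 : ((γ⁻¹ (y1 * y2) : E) : Sy φ) ∈ Q1 φ := by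
      rw [map_mul, Subgroup.coe_mul, mem_Q1, mul_x1, m1, m2]
      linear_combination a * h2K
    have m4 := (key (y1 * y2) m3).2.2.1
    rw [comm_x5, hb1] at m4
    have m5 : ((y1 * y2 : E) : Sy φ) = u6 φ 1 * u5 φ c := rfl
    rw [m5, mul_x6, mul_x1] at m4
    simp only [u6, u5, add_zero, one_smul, smul_zero, sub_zero] at m4
    exact ha m4
  have hN : nm φ a ≠ 0 := fun h => ha ((nm_eq_zero φ).1 h)
  -- `Z4` is invariant
  have hZ4inv : Inv Γ (Z4 φ) := by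
    refine ⟨hZ4E, fun γ hγ v hv => ?_⟩
    have hv1 : ((γ v : E) : Sy φ) ∈ Q1 φ := hQ1inv.2 γ hγ v (Z4_le_Q1 hv)
    refine ⟨hv1, ?_⟩
    set g : E := ⟨u1 φ a, haE⟩ with hg
    have hg1 : ((γ⁻¹ g : E) : Sy φ) ∉ Q1 φ := by
      intro h3
      have h4 := hQ1inv.2 γ hγ _ h3
      rw [MulAut.apply_inv_self] at h4
      exact ha h4
    have h5 : ((⁅v, ⁅v, γ⁻¹ g⁆⁆ : E) : Sy φ) = 1 := by
      have h3 : ((⁅v, ⁅v, γ⁻¹ g⁆⁆ : E) : Sy φ) = ⁅(v : Sy φ), ⁅(v : Sy φ), ((γ⁻¹ g : E) : Sy φ)⁆⁆ := rfl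
      rw [h3, comm_comm_Q1 h2F (Z4_le_Q1 hv), hv.2]
      simp [u4]
      rfl
    have h6 : ⁅v, ⁅v, γ⁻¹ g⁆⁆ = 1 := Subtype.ext h5
    have h7 := congrArg γ h6
    rw [map_commutatorElement, map_commutatorElement, MulAut.apply_inv_self, map_one] at h7
    have h8 : ⁅((γ v : E) : Sy φ), ⁅((γ v : E) : Sy φ), (g : Sy φ)⁆⁆ = 1 := congrArg Subtype.val h7
    rw [comm_comm_Q1 h2F hv1] at h8
    have h9 := congrArg Sy.x4 h8
    have h10 : ((γ v : E) : Sy φ).x6 ^ 2 * nm φ a = 0 := h9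
    exact pow_eq_zero_iff (two_ne_zero) |>.1 ((mul_eq_zero.1 h10).resolve_right hN)
  -- `X`
  let X : Subgroup (Sy φ) :=
    { carrier := {x | x ∈ Z4 φ ∧ cr φ a x.x5 = 0}
      one_mem' := ⟨(Z4 φ).one_mem, by rw [one_x5, cr_zero_right]⟩
      mul_mem' := fun {x y} hx hy => ⟨(Z4 φ).mul_mem hx.1 hy.1, by
        rw [mul_x5, hy.1.2, zero_smul, add_zero, cr_add_right, hx.2, hy.2, add_zero]⟩
      inv_mem' := fun {x} hx => ⟨(Z4 φ).inv_mem hx.1, by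
        rw [inv_x5, hx.1.2, zero_smul, add_zero, cr_neg_right, hx.2, neg_zero]⟩ }
  have hXm : ∀ x : Sy φ, x ∈ X ↔ x ∈ Z4 φ ∧ cr φ a x.x5 = 0 := fun x => Iff.rfl
  have hX' : ∀ x : Sy φ, x ∈ Z4 φ → (cr φ a x.x5 = 0 ↔ ∀ g ∈ E, ∀ y ∈ Z4 φ, ⁅x, ⁅g, y⁆⁆ = 1) := by
    intro x hx
    have hform : ∀ g : Sy φ, ∀ y ∈ Z4 φ, ⁅x, ⁅g, y⁆⁆ = u4 φ (-tr φ (cr φ g.x1 x.x5 * y.x5)) := by
      intro g y hy
      have h3 := comm_mem_Z3 (x := g) hy
      rw [comm_Q1 hx.1 h3.1, form, hx.2, h3.2.1, h3.2.2, comm_x3 hy, zero_mul, mul_zero, mul_zero, tr_zero, sub_zero,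
        add_zero, zero_sub, cr_comm φ g.x1 x.x5, tr_cr]
    constructor
    · intro h5 g hg y hy
      rw [hform g y hy]
      rcases (hE g).1 hg with h6 | h6
      · rw [h6, cr_zero_left, zero_mul, tr_zero, neg_zero]; rfl
      · rw [h6, h5, zero_mul, tr_zero, neg_zero]; rfl
    · intro h5
      apply tr_nondeg φ
      intro c
      have h6 := h5 _ haE (u5 φ c) (u5_mem c)
      rw [hform _ _ (u5_mem c)] at h6
      have h7 := congrArg Sy.x4 h6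
      have h8 : -tr φ (cr φ a x.x5 * c) = 0 := h7
      exact neg_eq_zero.1 h8
  have hXinv : Inv Γ X := by
    refine ⟨fun x hx => hZ4E hx.1, fun γ hγ e he => ?_⟩
    have h3 := hZ4inv.2 γ hγ e he.1
    refine (hXm _).2 ⟨h3, (hX' _ h3).2 fun g hg y hy => ?_⟩
    have h4 := (hX' _ he.1).1 he.2 ((γ⁻¹ ⟨g, hg⟩ : E) : Sy φ) (γ⁻¹ ⟨g, hg⟩).2 ((γ⁻¹ ⟨y, hZ4E hy⟩ : E) : Sy φ)
      (hZ4inv.2 γ⁻¹ (Γ.inv_mem hγ) _ hy)
    have h5 : ⁅e, ⁅γ⁻¹ ⟨g, hg⟩, γ⁻¹ ⟨y, hZ4E hy⟩⁆⁆ = 1 := Subtype.ext h4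
    have h6 := congrArg γ h5
    rw [map_commutatorElement, map_commutatorElement, MulAut.apply_inv_self, MulAut.apply_inv_self, map_one] at h6
    exact congrArg Subtype.val h6
  have hcra : ∀ r : F, cr φ a (r • a) = 0 := fun r => cr_smul_self_two φ h2K r a
  have hXE1 : ∀ x ∈ E, ∃ r : F, x.x1 = r • a := by
    intro x hx
    rcases (hE x).1 hx with h3 | h3
    · exact ⟨0, by rw [h3, zero_smul]⟩
    · exact ⟨1, by rw [h3, one_smul]⟩
  have hΦX : Phi E ≤ X := by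
    refine hleast X (fun x hx => hZ4E hx.1) ?_ ?_
    · intro x hx y hy
      rw [← commutatorElement_def]
      refine ⟨comm_mem_Z4 _ _, ?_⟩
      obtain ⟨r1, hr1⟩ := hXE1 x hx
      obtain ⟨r2, hr2⟩ := hXE1 y hy
      rw [comm_x5, hr1, hr2, smul_smul, smul_smul, ← sub_smul, hcra]
    · intro x hx
      have h4 := pow_mem_Z4 (p := 2) x
      refine ⟨h4, ?_⟩
      obtain ⟨r1, hr1⟩ := hXE1 x hx
      have h5 : (x ^ 2).x5 = (x.x6 * r1) • a := by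
        rw [sq, mul_x5, hr1, smul_smul]
        linear_combination x.x5 * h2K
      rw [h5, hcra]
  have hZ3X : Z3 φ ≤ X := fun x hx => ⟨Z3_le_Z4 hx, by rw [hx.2.2, cr_zero_right]⟩
  refine not_le_of_ess h (hch h 4 (fun i => if i = 0 then Phi E else if i = 1 then X else if i = 2 then Z4 φ else
    if i = 3 then Q1 φ else E) ?_ ?_ ?_ ?_ ⊤ le_rfl ?_)
  · exact le_rfl
  · rfl
  · intro i hi
    interval_cases i
    · exact hinv Γ
    · exact hXinv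
    · exact hZ4inv
    · exact hQ1inv
    · exact inv_self
  · intro i hi
    interval_cases i
    · exact hΦX
    · exact fun x hx => hx.1
    · exact Z4_le_Q1
    · exact hQ
  · intro i hi
    interval_cases i
    · intro g _ x hx
      show g * x * g⁻¹ * x⁻¹ ∈ Phi E
      have hx' : x ∈ X := hx
      rw [← commutatorElement_def]
      obtain ⟨κ, hκ⟩ := cr_eq_zero_two φ h2K ha hx'.2
      obtain ⟨k, hk, hk3, hkx⟩ := exists_cr_mem hEE hQ haE (κ • g.x1)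
      refine mem_of_x3 hZ2 hk hk3 (comm_mem_Z3 hx'.1) ?_
      rw [hkx, comm_x3 hx'.1, hκ, cr_smul_right, cr_smul_right, cr_comm]
    · intro g _ x hx
      show g * x * g⁻¹ * x⁻¹ ∈ X
      rw [← commutatorElement_def]
      exact hZ3X (comm_mem_Z3 hx)
    · intro g _ x _
      show g * x * g⁻¹ * x⁻¹ ∈ Z4 φ
      rw [← commutatorElement_def]
      exact comm_mem_Z4 g x
    · intro g _ x _
      show g * x * g⁻¹ * x⁻¹ ∈ Q1 φ
      rw [← commutatorElement_def]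
      exact comm_x1 g x

end two

/-! ### The statements -/

theorem stE2o (hphi : StPhi.{u}) (hp2 : StP2.{u}) (hp2w : StP2w.{u}) (hl : StL.{u}) (hch : StCh.{u}) :
    StE2o.{u} := by
  intro F K _ _ _ _ _ φ _ p _ E Γ h hp hQ
  by_contra hne
  have h2 : (2 : K) ≠ 0 := by
    intro h2
    have h1 : p ∣ 2 := (CharP.cast_eq_zero_iff K p 2).1 (by exact_mod_cast h2)
    exact hp ((Nat.prime_dvd_prime_iff_eq h.pp Nat.prime_two).1 h1)
  obtain ⟨-, hEE, -, -, -, -⟩ := hphi E p h.pp inferInstance (isPGroup_of_ess h)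
  obtain ⟨t, ht, htE⟩ := exists_of_ne hQ hne
  obtain ⟨s, hs, hE, hΦ⟩ := lemA hphi hp2 hp2w h hQ (Z3_le_odd h2 hEE hQ ht htE)
  exact plane_false hphi hl hch h hs hE hΦ

theorem stE2a (hphi : StPhi.{u}) (hp2 : StP2.{u}) (hp2w : StP2w.{u}) : StE2a.{u} := by
  intro F K _ _ _ _ _ φ _ _ E Γ h hQ hne
  have h2K : (2 : K) = 0 := CharTwo.two_eq_zero
  obtain ⟨-, hEE, -, -, -, -⟩ := hphi E 2 h.pp inferInstance (isPGroup_of_ess h)
  obtain ⟨t, ht, htE⟩ := exists_of_ne hQ hne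
  by_cases hcon : ∀ x ∈ E, x.x1 = 0 ∨ x.x1 = t
  · right
    refine ⟨t, ht, fun x => ⟨hcon x, ?_⟩⟩
    rintro (hx | hx)
    · exact hQ hx
    · rw [mem_iff_x1 hQ, hx]
      exact htE
  left
  push Not at hcon
  obtain ⟨x, hxE, hx0, hxt⟩ := hcon
  have hZ3 : Z3 φ ≤ Phi E := by
    by_cases hx : ∃ κ : F, x.x1 = κ • t
    · obtain ⟨κ, hκ⟩ := hx
      refine Z3_le_two' h2K hEE hQ ht htE (κ := κ) ?_ ?_ ?_
      · rw [← hκ]
        exact (mem_iff_x1 hQ x).1 hxE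
      · rintro rfl
        exact hx0 (by rw [hκ, zero_smul])
      · rintro rfl
        exact hxt (by rw [hκ, one_smul])
    · push Not at hx
      exact Z3_le_two h2K hEE hQ ht htE ((mem_iff_x1 hQ x).1 hxE) hx
  obtain ⟨s, hs, hE, -⟩ := lemA hphi hp2 hp2w h hQ hZ3
  exact ⟨s, hs, hE⟩

theorem stE2b (hphi : StPhi.{u}) (hp2 : StP2.{u}) (hp2w : StP2w.{u}) (hl : StL.{u}) (hch : StCh.{u}) :
    StE2b.{u} := by
  intro F K _ _ _ _ _ φ _ _ E Γ h s hs hE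
  have h2K : (2 : K) = 0 := CharTwo.two_eq_zero
  obtain ⟨-, hEE, -, -, -, -⟩ := hphi E 2 h.pp inferInstance (isPGroup_of_ess h)
  have hQ : Q1 φ ≤ E := fun x hx => (hE x).2 (by rw [mem_Q1.1 hx, mul_zero, tr_zero])
  obtain ⟨t1, t2, h1, h2, h3, h4⟩ := exists_indep φ hs
  have hZ3 : Z3 φ ≤ Phi E := Z3_le_two h2K hEE hQ h3 ((hE _).2 h1) ((hE _).2 h2) h4
  obtain ⟨s', hs', hE', hΦ⟩ := lemA hphi hp2 hp2w h hQ hZ3
  exact plane_false hphi hl hch h hs' hE' hΦ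

theorem stE2o_eng (e : Eng.{u}) : StE2o.{u} := stE2o e.phi e.p2 e.p2w e.l e.ch
theorem stE2a_eng (e : Eng.{u}) : StE2a.{u} := stE2a e.phi e.p2 e.p2w
theorem stE2b_eng (e : Eng.{u}) : StE2b.{u} := stE2b e.phi e.p2 e.p2w e.l e.ch
theorem stE2c_eng (e : Eng.{u}) : StE2c.{u} := stE2c e.phi e.ch

end Cfsg.Agent.H15.TE
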